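import Groth.Agent.AlgSpLib.EtLocalInst
import Groth.Agent.AlgSpLib.LargestOpen
import Groth.Agent.AlgSpDec.AffineRep
import Groth.Agent.AlgSpPts.Univ
import Groth.Agent.Dsp6.UnramMono
import Groth.Agent.S10261
import Groth.Agent.S9938
import Groth.Agent.S9939
import Mathlib.AlgebraicGeometry.Morphisms.UniversallyInjective

/-!
Universal homeomorphisms of algebraic spaces: points, and maps into spaces etale over the base.
-/

set_option autoImplicit false
set_option maxHeartbeats 400000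
set_option backward.isDefEq.respectTransparency false
set_option backward.isDefEq.respectTransparency.types false

universe u

open CategoryTheory CategoryTheory.Limits AlgebraicGeometry Opposite AlgSp
open Groth.Agent.AlgSpLib Groth.Agent.AlgSpPts

namespace Groth.Agent.Dsp6.UHEq

variable {S : Scheme.{u}}

/-- Representable, integral, universally injective and surjective. -/
structure UH {X Y : Sp S} (f : X ⟶ Y) : Prop where
  int : RepWith @IsIntegralHom f
  inj : RepWith @UniversallyInjective f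
  surj : RepWith @Surjective f

theorem uh_of_hyps {X Y : Space S} (f : X ⟶ Y) (h1 : IsIntegralMor f.hom) (h2 : IsUnivInjectiveMor f.hom)
    (h3 : IsSurjectiveMor f.hom) : UH f.hom := by
  have hi : RepWith @IsIntegralHom f.hom := AlgSpDec.isIntegralMor_iff_repWith.1 h1
  exact ⟨hi, (Groth.Agent.S9939.result f hi.rep).2 ((Groth.Agent.S9938.result f).1.2 h2),
    repWith_surjective_of_surjective hi.rep h3⟩

variable {X Y P G : Sp S} {f : X ⟶ Y}

theorem UH.of_isPullback (hf : UH f) {fst : P ⟶ X} {snd : P ⟶ G} {g : G ⟶ Y}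
    (sq : IsPullback fst snd f g) : UH snd :=
  ⟨repWith_of_isPullback sq hf.int, repWith_of_isPullback sq hf.inj, repWith_of_isPullback sq hf.surj⟩

theorem UH.bijective (hf : UH f) : Function.Bijective (Points.map f) :=
  ⟨AlgSpPts.injective_map (repWith_mono (fun _ _ g (_ : UniversallyInjective g) => g.injective) _ hf.inj),
    surjective_map_of_repWith hf.surj⟩

theorem UH.isClosedMap (hf : UH f) : IsClosedMap (Points.map f) :=
  AlgSpPts.isClosedMap_map (repWith_mono (fun _ _ g (_ : IsIntegralHom g) => inferInstanceAs (UniversallyClosed g)) _ hf.int)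

theorem UH.isOpenMap (hf : UH f) : IsOpenMap (Points.map f) := fun U hU => by
  rw [← isClosed_compl_iff, ← Set.image_compl_eq hf.bijective]
  exact hf.isClosedMap _ hU.isClosed_compl

theorem locP_etale_of_comp {A B C : Sp S} (hC : IsAlgSpace C) {a : A ⟶ B} {b : B ⟶ C}
    (hab : LocP @Etale (a ≫ b)) (hb : LocP @Etale b) : LocP @Etale a :=
  locP_of_comp' (P := @Etale) (Q := @Etale) (fun a b h hb => by
    have : Etale (a ≫ b) := h
    have : Etale b := hb
    exact Etale.of_comp a b) hC hab hb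

theorem isOpenMap_of_etale {A B : Sp S} (hA : IsAlgSpace A) (hB : IsAlgSpace B) {a : A ⟶ B}
    (ha : LocP @Etale a) : IsOpenMap (Points.map a) :=
  isOpenMap_map_of_fppf hA hB a
    (locP_mono (fun _ _ g (_ : Etale g) => (inferInstance : Flat g)) ha)
    (locP_mono (fun _ _ g (_ : Etale g) => (inferInstance : LocallyOfFinitePresentation g)) ha)

theorem repWith_openImm_of_etale_mono {A B : Sp S} (hA : IsAlgSpace A) (hB : IsAlgSpace B) (a : A ⟶ B) [Mono a]
    (ha : LocP @Etale a) : RepWith @IsOpenImmersion a :=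
  Groth.Agent.S10261.result (X := ⟨A, hA⟩) (Y := ⟨B, hB⟩) (ObjectProperty.homMk a)
    ((isEtaleMor_iff_locP hA hB a).2 ha) (isUnivInjectiveMor_of_mono (f := a))

theorem locP_etale_pullback_fst {A B C : Sp S} (hA : IsAlgSpace A) (hB : IsAlgSpace B) (hC : IsAlgSpace C)
    {a : A ⟶ C} {b : B ⟶ C} (hb : LocP @Etale b) : LocP @Etale (pullback.fst a b) :=
  AlgSpLib.locP_of_isPullback (IsPullback.of_hasPullback a b).flip hB hC hA hb

theorem locP_etale_diagonal' {V : Sp S} (hV : IsAlgSpace V) (hY : IsAlgSpace Y) {a : V ⟶ Y}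
    (ha : LocP @Etale a) : LocP @Etale (pullback.diagonal a) := by
  refine locP_etale_of_comp hV (b := pullback.fst a a) ?_ (locP_etale_pullback_fst hV hV hY ha)
  rw [pullback.diagonal_fst]
  exact locP_of_repWith (repWith_of_isIso @Etale (𝟙 V))

/-- Maps into a space etale over the base agree when they agree after a map surjective on points. -/
theorem eq_of_surjective_comp {V T T' : Sp S} (hV : IsAlgSpace V) (hY : IsAlgSpace Y) (hT : IsAlgSpace T)
    {a : V ⟶ Y} (ha : LocP @Etale a) {u v : T ⟶ V} (h : u ≫ a = v ≫ a) (e : T' ⟶ T)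
    (he : Function.Surjective (Points.map e)) (huv : e ≫ u = e ≫ v) : u = v := by
  have hP := isAlgSpace_pullback hV hV hY a a
  haveI : IsSplitMono (pullback.diagonal a) := ⟨⟨pullback.fst a a, pullback.diagonal_fst a⟩⟩
  have hd : RepWith @IsOpenImmersion (pullback.diagonal a) :=
    repWith_openImm_of_etale_mono hV hP _ (locP_etale_diagonal' hV hY ha)
  have hw : e ≫ pullback.lift u v h = (e ≫ u) ≫ pullback.diagonal a := by
    apply pullback.hom_ext
    · simp only [Category.assoc, pullback.lift_fst, pullback.diagonal_fst, Category.comp_id]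
    · simp only [Category.assoc, pullback.lift_snd, pullback.diagonal_snd, Category.comp_id, huv]
  obtain ⟨g, hg⟩ := exists_lift_openImmersion hT hV hP hd (pullback.lift u v h) (by
    rintro _ ⟨t, rfl⟩
    obtain ⟨t', rfl⟩ := he t
    exact ⟨Points.map (e ≫ u) t', by rw [← Points.map_comp, ← hw, Points.map_comp]⟩)
  have h1 := congrArg (· ≫ pullback.fst a a) hg
  have h2 := congrArg (· ≫ pullback.snd a a) hg
  simp only [Category.assoc, pullback.diagonal_fst, pullback.diagonal_snd, Category.comp_id,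
    pullback.lift_fst, pullback.lift_snd] at h1 h2
  exact h1.symm.trans h2

/-- Maps between spaces etale over the target of a universal homeomorphism come uniquely from maps of base changes. -/
theorem existsUnique_hom (hf : UH f) (hX : IsAlgSpace X) (hY : IsAlgSpace Y) {V₁' V₂' V₁ V₂ : Sp S}
    (h₁' : IsAlgSpace V₁') (h₂' : IsAlgSpace V₂') (h₁ : IsAlgSpace V₁)
    {a₁ : V₁' ⟶ Y} {a₂ : V₂' ⟶ Y} (ha₁ : LocP @Etale a₁) (ha₂ : LocP @Etale a₂)
    {b₁ : V₁ ⟶ X} {c₁ : V₁ ⟶ V₁'} {b₂ : V₂ ⟶ X} {c₂ : V₂ ⟶ V₂'}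
    (sq₁ : IsPullback b₁ c₁ f a₁) (sq₂ : IsPullback b₂ c₂ f a₂) (φ : V₁ ⟶ V₂) (hφ : φ ≫ b₂ = b₁) :
    ∃! φ' : V₁' ⟶ V₂', φ' ≫ a₂ = a₁ ∧ c₁ ≫ φ' = φ ≫ c₂ := by
  have hc₁ := (hf.of_isPullback sq₁).bijective
  have huniq : ∀ φ' ψ' : V₁' ⟶ V₂', (φ' ≫ a₂ = a₁ ∧ c₁ ≫ φ' = φ ≫ c₂) →
      (ψ' ≫ a₂ = a₁ ∧ c₁ ≫ ψ' = φ ≫ c₂) → φ' = ψ' := fun φ' ψ' h h' =>
    eq_of_surjective_comp h₂' hY h₁' ha₂ (h.1.trans h'.1.symm) c₁ hc₁.2 (h.2.trans h'.2.symm)
  refine existsUnique_of_exists_of_unique ?_ huniq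
  let Z := pullback a₁ a₂
  have hZ : IsAlgSpace Z := isAlgSpace_pullback h₁' h₂' hY a₁ a₂
  let z : Z ⟶ Y := pullback.fst a₁ a₂ ≫ a₁
  have hz : LocP @Etale z := AlgSpLib.locP_comp hZ h₁' hY (locP_etale_pullback_fst h₁' h₂' hY ha₂) ha₁
  let ZX := pullback f z
  have hZX : IsAlgSpace ZX := isAlgSpace_pullback hX hZ hY f z
  let π : ZX ⟶ Z := pullback.snd f z
  have hπ : UH π := hf.of_isPullback (IsPullback.of_hasPullback f z)
  have w₀ : c₁ ≫ a₁ = (φ ≫ c₂) ≫ a₂ := by
    rw [Category.assoc, ← sq₂.w, ← Category.assoc, hφ, ← sq₁.w]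
  let γ : V₁ ⟶ ZX := pullback.lift b₁ (pullback.lift c₁ (φ ≫ c₂) w₀) (by
    simp only [z]
    rw [← Category.assoc (pullback.lift c₁ (φ ≫ c₂) w₀), pullback.lift_fst, sq₁.w])
  have hγ₁ : γ ≫ pullback.fst f z = b₁ := pullback.lift_fst _ _ _
  have hγ₂ : γ ≫ π ≫ pullback.fst a₁ a₂ = c₁ := by
    rw [← Category.assoc]; simp only [γ, π, pullback.lift_snd, pullback.lift_fst]
  have hγ₃ : γ ≫ π ≫ pullback.snd a₁ a₂ = φ ≫ c₂ := by
    rw [← Category.assoc]; simp only [γ, π, pullback.lift_snd]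
  haveI : Mono γ := ⟨fun p p' e => sq₁.hom_ext
    (by rw [← hγ₁, ← Category.assoc, e, Category.assoc])
    (by rw [← hγ₂, ← Category.assoc, e, Category.assoc])⟩
  have hγe : LocP @Etale γ := by
    refine locP_etale_of_comp hX (b := pullback.fst f z) ?_ (locP_etale_pullback_fst hX hZ hY hz)
    rw [hγ₁]
    exact AlgSpLib.locP_of_isPullback sq₁.flip h₁' hY hX ha₁
  have hγo := repWith_openImm_of_etale_mono h₁ hZX γ hγe
  obtain ⟨G, j, hG, hj, hr⟩ := exists_open_subspace hZ
    ((hπ.isOpenMap _ (isOpenMap_of_etale h₁ hZX hγe).isOpen_range))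
  have hje : RepWith @Etale j := repWith_mono (fun _ _ g (_ : IsOpenImmersion g) => inferInstanceAs (Etale g)) _ hj
  haveI : Mono j := AlgSpDec.mono_of_openImmersion hj
  let h : G ⟶ V₁' := j ≫ pullback.fst a₁ a₂
  have hhe : LocP @Etale h :=
    AlgSpLib.locP_comp hG hZ h₁' (locP_of_repWith hje) (locP_etale_pullback_fst h₁' h₂' hY ha₂)
  obtain ⟨n, hn⟩ := exists_lift_openImmersion h₁ hG hZ hj (γ ≫ π) (by
    rw [hr]
    rintro _ ⟨v, rfl⟩
    exact ⟨_, ⟨v, rfl⟩, (Points.map_comp γ π v).symm⟩)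
  have hnh : n ≫ h = c₁ := by
    simp only [h]
    rw [← Category.assoc, hn, Category.assoc, hγ₂]
  have hhs : Function.Surjective (Points.map h) := fun y => by
    obtain ⟨v, rfl⟩ := hc₁.2 y
    exact ⟨Points.map n v, by rw [← Points.map_comp, hnh]⟩
  -- `h` is a monomorphism
  let Pg := pullback h h
  have hPg : IsAlgSpace Pg := isAlgSpace_pullback hG hG h₁' h h
  let g₁ : Pg ⟶ G := pullback.fst h h
  let g₂ : Pg ⟶ G := pullback.snd h h
  have hg : g₁ = g₂ := by
    let z₁ : Pg ⟶ Y := g₁ ≫ h ≫ a₁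
    let TX := pullback f z₁
    have hTX : IsAlgSpace TX := isAlgSpace_pullback hX hPg hY f z₁
    let e : TX ⟶ Pg := pullback.snd f z₁
    have he := (hf.of_isPullback (IsPullback.of_hasPullback f z₁)).bijective.2
    have hgh : g₁ ≫ h = g₂ ≫ h := pullback.condition
    have hw : ∀ g' : Pg ⟶ G, g' ≫ h = g₁ ≫ h → pullback.fst f z₁ ≫ f = (e ≫ g' ≫ j) ≫ z := fun g' hg' => by
      have e1 : g' ≫ j ≫ z = z₁ := by
        simp only [z, z₁]
        rw [← Category.assoc j, ← Category.assoc g' (j ≫ _), show j ≫ pullback.fst a₁ a₂ = h from rfl, hg',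
          Category.assoc]
      exact (pullback.condition.trans (congrArg (e ≫ ·) e1.symm)).trans (by simp only [Category.assoc])
    have key : ∀ g' : Pg ⟶ G, g' ≫ h = g₁ ≫ h → ∃ k : TX ⟶ V₁, k ≫ b₁ = pullback.fst f z₁ ∧
        k ≫ c₁ = e ≫ g₁ ≫ h ∧ k ≫ γ ≫ π = e ≫ g' ≫ j := fun g' hg' => by
      obtain ⟨k, hk⟩ := exists_lift_openImmersion hTX h₁ hZX hγo
        (pullback.lift (pullback.fst f z₁) (e ≫ g' ≫ j) (hw g' hg')) (by
          rintro _ ⟨t, rfl⟩
          have h4 : Points.map π (Points.map (pullback.lift (pullback.fst f z₁) (e ≫ g' ≫ j) (hw g' hg')) t) ∈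
              Set.range (Points.map j) :=
            ⟨Points.map (e ≫ g') t, by
              rw [← Points.map_comp, ← Points.map_comp, Category.assoc]
              exact congrArg (fun m => Points.map m t) (pullback.lift_snd _ _ _).symm⟩
          rw [hr] at h4
          obtain ⟨z', ⟨v, rfl⟩, hz'⟩ := h4
          exact ⟨v, hπ.bijective.1 hz'⟩)
      refine ⟨k, ?_, ?_, ?_⟩
      · rw [← hγ₁, ← Category.assoc, hk, pullback.lift_fst]
      · rw [← hγ₂, ← Category.assoc, hk, ← Category.assoc, pullback.lift_snd, Category.assoc, Category.assoc]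
        exact congrArg (e ≫ ·) hg'
      · rw [← Category.assoc, hk, pullback.lift_snd]
    obtain ⟨k, hk₁, hk₂, hk₃⟩ := key g₁ rfl
    obtain ⟨k', hk₁', hk₂', hk₃'⟩ := key g₂ hgh.symm
    have hkk : k = k' := sq₁.hom_ext (hk₁.trans hk₁'.symm) (hk₂.trans hk₂'.symm)
    have hej : e ≫ g₁ ≫ j = e ≫ g₂ ≫ j := by rw [← hk₃, ← hk₃', hkk]
    have h2 : g₁ ≫ j ≫ pullback.snd a₁ a₂ = g₂ ≫ j ≫ pullback.snd a₁ a₂ := by
      refine eq_of_surjective_comp h₂' hY hPg ha₂ ?_ e he ?_
      · simp only [Category.assoc, ← pullback.condition]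
        simpa only [h, Category.assoc] using congrArg (· ≫ a₁) hgh
      · simpa only [Category.assoc] using congrArg (· ≫ pullback.snd a₁ a₂) hej
    rw [← cancel_mono j]
    apply pullback.hom_ext
    · simpa only [h, Category.assoc] using hgh
    · simpa only [Category.assoc] using h2
  haveI : Mono h := ⟨fun p p' e => by
    have e1 := congrArg (pullback.lift p p' e ≫ ·) hg
    simp only [g₁, g₂, pullback.lift_fst, pullback.lift_snd] at e1
    exact e1⟩
  haveI := isIso_of_mono_of_etale_surjective hG h₁' h hhe hhs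
  refine ⟨inv h ≫ j ≫ pullback.snd a₁ a₂, ?_, ?_⟩
  · rw [Category.assoc, Category.assoc, ← pullback.condition, ← Category.assoc j, show j ≫ pullback.fst a₁ a₂ = h from rfl,
      IsIso.inv_hom_id_assoc]
  · rw [← hnh, Category.assoc, IsIso.hom_inv_id_assoc, ← Category.assoc, hn, Category.assoc, hγ₃]

end Groth.Agent.Dsp6.UHEq
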