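import Groth.Agent.EtFound.UnivInjPush
import Mathlib.AlgebraicGeometry.Limits

/-!
Etale schemes over the source of a universal homeomorphism are covered from the target.
-/

set_option autoImplicit false
set_option backward.isDefEq.respectTransparency false
set_option backward.isDefEq.respectTransparency.types false

universe u

open CategoryTheory CategoryTheory.Limits AlgebraicGeometry

namespace Groth.Agent.Dsp6.UHEq

/-- One scheme étale over the target whose base change covers a given one étale over the source. -/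
theorem exists_cover_scheme {X Y U : Scheme.{u}} (c : X ⟶ Y) [IsIntegralHom c] [UniversallyInjective c]
    [Surjective c] (g : U ⟶ X) [Etale g] :
    ∃ (W : Scheme.{u}) (v : W ⟶ Y) (_ : Etale v) (k : pullback v c ⟶ U),
      k ≫ g = pullback.snd v c ∧ Surjective k := by
  have key : ∀ x : U, ∃ (V : Scheme.{u}) (v : V ⟶ Y) (_ : Etale v) (k : pullback v c ⟶ U),
      k ≫ g = pullback.snd v c ∧ x ∈ Set.range k := fun x => by
    obtain ⟨V, k, hx⟩ := EtFound.liftable_of_integral_univInj c (Scheme.Etale.mk g) x
    exact ⟨V.left, V.hom, V.prop, k.left, MorphismProperty.Over.w k, hx⟩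
  choose V v hv k hk hx using key
  let W : Scheme.{u} := ∐ V
  let w : W ⟶ Y := Sigma.desc v
  have hwι : ∀ x, Sigma.ι V x ≫ w = v x := fun x => Sigma.ι_desc v x
  have hw : Etale w := by
    refine IsZariskiLocalAtSource.of_openCover (P := @Etale) (sigmaOpenCover V) fun x => ?_
    have : Etale (v x) := hv x
    rw [show (sigmaOpenCover V).f x ≫ w = v x from hwι x]
    infer_instance
  let 𝒰 : (pullback w c).OpenCover := (sigmaOpenCover V).pullback₁ (pullback.fst w c)
  let m : ∀ x, 𝒰.X x ⟶ pullback (v x) c := fun x =>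
    pullback.lift (pullback.snd (pullback.fst w c) (Sigma.ι V x)) (pullback.fst (pullback.fst w c) (Sigma.ι V x) ≫ pullback.snd w c) (by
      rw [← hwι x, ← Category.assoc, ← pullback.condition, Category.assoc, Category.assoc, pullback.condition])
  have hcompat : ∀ x y, pullback.fst (𝒰.f x) (𝒰.f y) ≫ m x ≫ k x = pullback.snd (𝒰.f x) (𝒰.f y) ≫ m y ≫ k y := by
    intro x y
    by_cases hxy : x = y
    · subst hxy
      rw [fst_eq_snd_of_mono_eq (𝒰.f x)]
    · haveI : IsEmpty ↑(pullback (𝒰.f x) (𝒰.f y)) := by
        refine ⟨fun z => (isEmpty_pullback_sigmaι_of_ne V hxy).false ?_⟩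
        exact (pullback.lift (f := Sigma.ι V x) (g := Sigma.ι V y)
          (pullback.fst (𝒰.f x) (𝒰.f y) ≫ pullback.snd (pullback.fst w c) (Sigma.ι V x))
          (pullback.snd (𝒰.f x) (𝒰.f y) ≫ pullback.snd (pullback.fst w c) (Sigma.ι V y)) (by
            rw [Category.assoc, Category.assoc, ← pullback.condition, ← pullback.condition]
            exact (Category.assoc _ _ _).symm.trans ((congrArg (· ≫ pullback.fst w c) pullback.condition).trans
              (Category.assoc _ _ _))) :
          pullback (𝒰.f x) (𝒰.f y) ⟶ pullback (Sigma.ι V x) (Sigma.ι V y)) z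
      exact (isInitialOfIsEmpty (X := pullback (𝒰.f x) (𝒰.f y))).hom_ext _ _
  let K : pullback w c ⟶ U := 𝒰.glueMorphisms (fun x => m x ≫ k x) hcompat
  have hK : ∀ x, 𝒰.f x ≫ K = m x ≫ k x := fun x => Scheme.Cover.ι_glueMorphisms 𝒰 _ hcompat x
  refine ⟨W, w, hw, K, Scheme.Cover.hom_ext 𝒰 _ _ fun x => ?_, ⟨fun z => ?_⟩⟩
  · rw [← Category.assoc, hK, Category.assoc, hk]
    exact pullback.lift_snd _ _ _
  · obtain ⟨q, hq⟩ := hx z
    let r : pullback (v z) c ⟶ pullback (pullback.fst w c) (Sigma.ι V z) :=
      pullback.lift (pullback.lift (pullback.fst (v z) c ≫ Sigma.ι V z) (pullback.snd (v z) c)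
        (by rw [Category.assoc, hwι, pullback.condition])) (pullback.fst (v z) c) (pullback.lift_fst _ _ _)
    have hr : r ≫ m z = 𝟙 _ := by
      apply pullback.hom_ext
      · rw [Category.assoc, Category.id_comp]
        simp only [m, r, pullback.lift_fst, pullback.lift_snd]
      · rw [Category.assoc, Category.id_comp]
        simp only [m, r, pullback.lift_snd, pullback.lift_fst_assoc]
    refine ⟨(r ≫ 𝒰.f z) q, ?_⟩
    rw [← Scheme.Hom.comp_apply, Category.assoc, hK, ← Category.assoc, hr, Category.id_comp, hq]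

end Groth.Agent.Dsp6.UHEq
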