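import Groth.Agent.Dsp6.UHEq.Basic
import Groth.Agent.Dsp6.UHEq.Cover
import Groth.Agent.AlgSpLib.EtLift

/-!
Spaces etale over the source of a universal homeomorphism descend to the target.
-/

set_option autoImplicit false
set_option maxHeartbeats 800000
set_option backward.isDefEq.respectTransparency false
set_option backward.isDefEq.respectTransparency.types false

universe u

open CategoryTheory CategoryTheory.Limits AlgebraicGeometry Opposite AlgSp Topology
open Groth.Agent.AlgSpLib Groth.Agent.AlgSpPts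

namespace Groth.Agent.Dsp6.UHEq

variable {S : Scheme.{u}} {X Y V : Sp S} {f : X ⟶ Y}

/-- A scheme etale over `Y` whose base change maps onto `V`. -/
theorem exists_cover (hf : UH f) (hX : IsAlgSpace X) (hY : IsAlgSpace Y) (hV : IsAlgSpace V) {b : V ⟶ X}
    (hb : LocP @Etale b) :
    ∃ (W WX : Over S) (w : (yon S).obj W ⟶ Y) (q : WX ⟶ W) (πX : (yon S).obj WX ⟶ X)
      (k : (yon S).obj WX ⟶ V), RepWith @Etale w ∧ IsPullback πX ((yon S).map q) f w ∧ k ≫ b = πX ∧
      Function.Surjective (Points.map k) := by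
  obtain ⟨Y', a, ha, has⟩ := hY.atlas
  let X' := hf.int.rep.pullback a
  let c : X' ⟶ Y' := hf.int.rep.snd a
  let aX : (yon S).obj X' ⟶ X := hf.int.rep.fst a
  have sqX : IsPullback aX ((yon S).map c) f a := hf.int.rep.isPullback a
  haveI : IsIntegralHom c.left := hf.int.property_snd a
  haveI : UniversallyInjective c.left := hf.inj.property _ _ _ sqX
  haveI : Surjective c.left := hf.surj.property _ _ _ sqX
  have hV' : IsAlgSpace (pullback b aX) := isAlgSpace_pullback hV (IsAlgSpace.yon_obj X') hX b aX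
  obtain ⟨U, e, he, hes⟩ := hV'.atlas
  obtain ⟨g, hg⟩ := (yon S).map_surjective (e ≫ pullback.snd b aX)
  have hgl : LocP @Etale ((yon S).map g) := by
    rw [hg]
    exact AlgSpLib.locP_comp (IsAlgSpace.yon_obj U) hV' (IsAlgSpace.yon_obj X') (locP_of_repWith he)
      (AlgSpLib.locP_of_isPullback (IsPullback.of_hasPullback b aX) hV hX (IsAlgSpace.yon_obj X') hb)
  haveI : Etale g.left := locP_yon_map hgl
  obtain ⟨W₀, v, hv, k₀, hk₀, hk₀s⟩ := exists_cover_scheme c.left g.left
  let W : Over S := Over.mk (v ≫ Y'.hom)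
  let w₀ : W ⟶ Y' := Over.homMk v rfl
  let WX : Over S := Over.mk (pullback.fst v c.left ≫ W.hom)
  let q : WX ⟶ W := Over.homMk (pullback.fst v c.left) rfl
  let p : WX ⟶ X' := Over.homMk (pullback.snd v c.left) (by
    show pullback.snd v c.left ≫ X'.hom = pullback.fst v c.left ≫ v ≫ Y'.hom
    rw [← Category.assoc, pullback.condition, Category.assoc, Over.w c])
  have s₀ : IsPullback q p w₀ c :=
    IsPullback.of_map (Over.forget S) (Over.OverMorphism.ext pullback.condition) (IsPullback.of_hasPullback v c.left)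
  let k₁ : WX ⟶ U := Over.homMk k₀ (by
    rw [← Over.w g, ← Category.assoc, hk₀]
    exact Over.w p)
  have hk₁ : k₁ ≫ g = p := Over.OverMorphism.ext hk₀
  refine ⟨W, WX, (yon S).map w₀ ≫ a, q, (yon S).map p ≫ aX, (yon S).map k₁ ≫ e ≫ pullback.fst b aX,
    repWith_comp ((repWith_yon_map_iff _ _).2 hv) ha, ((s₀.map (yon S)).flip.paste_horiz sqX), ?_, fun z => ?_⟩
  · rw [Category.assoc, Category.assoc, pullback.condition, ← Category.assoc e, ← hg, ← Category.assoc,
      ← Functor.map_comp, hk₁]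
  · obtain ⟨t, rfl⟩ : z ∈ Set.range (Points.map (pullback.fst b aX)) := by
      obtain ⟨x', hx'⟩ := surjective_map_of_repWith (repWith_of_isPullback sqX.flip has) (Points.map b z)
      obtain ⟨t, ht, -⟩ := exists_point_of_isPullback (IsPullback.of_hasPullback b aX) hx'.symm
      exact ⟨t, ht⟩
    obtain ⟨u, rfl⟩ := surjective_map_of_repWith hes t
    obtain ⟨y, rfl⟩ := surjective_map_of_repWith
      ((repWith_yon_map_iff @Surjective k₁).2 hk₀s : RepWith @Surjective ((yon S).map k₁)) u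
    exact ⟨y, by rw [Points.map_comp, Points.map_comp]⟩

/-- A space etale over the source of a universal homeomorphism is the base change of one over the target. -/
theorem exists_lift (hf : UH f) (hX : IsAlgSpace X) (hY : IsAlgSpace Y) (hV : IsAlgSpace V) {b : V ⟶ X}
    (hb : LocP @Etale b) :
    ∃ (V' : Sp S) (a : V' ⟶ Y) (c : V ⟶ V'), IsAlgSpace V' ∧ LocP @Etale a ∧ IsPullback b c f a := by
  obtain ⟨W, WX, w, q, πX, k, hw, sqW, hkb, hks⟩ := exists_cover hf hX hY hV hb
  have hWX : IsAlgSpace ((yon S).obj WX) := IsAlgSpace.yon_obj WX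
  have hπX : RepWith @Etale πX := repWith_of_isPullback sqW.flip hw
  have hke : RepWith @Etale k := repWith_of_locP hV (representable_from_yon' hV k)
    (locP_etale_of_comp hX (b := b) (by rw [hkb]; exact locP_of_repWith hπX) hb)
  have hks' : RepWith @Surjective k := repWith_surjective_of_surjective hke.rep hks
  -- the kernel pair of `k`
  let RX := hke.rep.pullback k
  let tX : RX ⟶ WX := hke.rep.fst' k
  let sX : RX ⟶ WX := hke.rep.snd k
  have sqK : IsPullback ((yon S).map tX) ((yon S).map sX) k k := hke.rep.isPullback' k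
  haveI : Etale sX.left := hke.property _ _ _ sqK
  -- the pairs over `Y`
  let P := hw.rep.pullback w
  let t' : P ⟶ W := hw.rep.fst' w
  let s' : P ⟶ W := hw.rep.snd w
  have sqP : IsPullback ((yon S).map t') ((yon S).map s') w w := hw.rep.isPullback' w
  haveI : Etale s'.left := hw.property _ _ _ sqP
  haveI : Etale t'.left := hw.property _ _ _ sqP.flip
  have hP : IsAlgSpace ((yon S).obj P) := IsAlgSpace.yon_obj P
  let z : (yon S).obj P ⟶ Y := (yon S).map t' ≫ w
  have hz : LocP @Etale z :=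
    locP_of_repWith (repWith_comp ((repWith_yon_map_iff @Etale t').2 ‹Etale t'.left›) hw)
  let PX := pullback f z
  have hPX : IsAlgSpace PX := isAlgSpace_pullback hX hP hY f z
  let π : PX ⟶ (yon S).obj P := pullback.snd f z
  have hπ : UH π := hf.of_isPullback (IsPullback.of_hasPullback f z)
  have htsX : (yon S).map tX ≫ πX = (yon S).map sX ≫ πX := by
    rw [← hkb, ← Category.assoc, sqK.w, Category.assoc]
  let ρP : (yon S).obj RX ⟶ (yon S).obj P := sqP.lift ((yon S).map tX ≫ (yon S).map q) ((yon S).map sX ≫ (yon S).map q) (by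
    rw [Category.assoc, Category.assoc, ← sqW.w, ← Category.assoc, htsX, Category.assoc])
  have hρP₁ : ρP ≫ (yon S).map t' = (yon S).map tX ≫ (yon S).map q := sqP.lift_fst _ _ _
  have hρP₂ : ρP ≫ (yon S).map s' = (yon S).map sX ≫ (yon S).map q := sqP.lift_snd _ _ _
  let ρ : (yon S).obj RX ⟶ PX := pullback.lift ((yon S).map tX ≫ πX) ρP (by
    simp only [z]
    rw [← Category.assoc ρP, hρP₁, Category.assoc, Category.assoc, sqW.w])
  have hρ₁ : ρ ≫ pullback.fst f z = (yon S).map tX ≫ πX := pullback.lift_fst _ _ _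
  have hρ₂ : ρ ≫ π = ρP := pullback.lift_snd _ _ _
  haveI : Mono ρ := ⟨fun x y e => sqK.hom_ext
    (sqW.hom_ext (by rw [Category.assoc, Category.assoc, ← hρ₁, reassoc_of% e])
      (by rw [Category.assoc, Category.assoc, ← hρP₁, ← hρ₂, Category.assoc ρ π, reassoc_of% e]))
    (sqW.hom_ext (by rw [Category.assoc, Category.assoc, ← htsX, ← hρ₁, reassoc_of% e])
      (by rw [Category.assoc, Category.assoc, ← hρP₂, ← hρ₂, Category.assoc ρ π, reassoc_of% e]))⟩
  have hρe : LocP @Etale ρ := by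
    refine locP_etale_of_comp hX (b := pullback.fst f z) ?_ (locP_etale_pullback_fst hX hP hY hz)
    rw [hρ₁]
    haveI : Etale tX.left := hke.property _ _ _ sqK.flip
    exact locP_of_repWith (repWith_comp ((repWith_yon_map_iff @Etale tX).2 ‹Etale tX.left›) hπX)
  have hρo := repWith_openImm_of_etale_mono (IsAlgSpace.yon_obj RX) hPX ρ hρe
  let O' : Set (Points ((yon S).obj P)) := Points.map π '' Set.range (Points.map ρ)
  have hO' : IsOpen O' := hπ.isOpenMap _ (isOpenMap_of_etale (IsAlgSpace.yon_obj RX) hPX hρe).isOpen_range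
  let O : P.left.Opens := ⟨Points.schemeHomeo P ⁻¹' O', hO'.preimage (Points.schemeHomeo P).continuous⟩
  let R : Over S := Over.mk (O.ι ≫ P.hom)
  let ι : R ⟶ P := Over.homMk O.ι rfl
  let t : R ⟶ W := ι ≫ t'
  let s : R ⟶ W := ι ≫ s'
  -- the relation
  let E : ∀ {T : Over S}, (T ⟶ W) → (T ⟶ W) → Prop := fun {T} y₁ y₂ =>
    (yon S).map y₁ ≫ w = (yon S).map y₂ ≫ w ∧ ∀ (Z : Sp S), IsAlgSpace Z →
      ∀ (z₁ z₂ : Z ⟶ (yon S).obj WX) (e : Z ⟶ (yon S).obj T), z₁ ≫ πX = z₂ ≫ πX →
        z₁ ≫ (yon S).map q = e ≫ (yon S).map y₁ → z₂ ≫ (yon S).map q = e ≫ (yon S).map y₂ → z₁ ≫ k = z₂ ≫ k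
  have hmemO : ∀ {T : Over S} (p : T ⟶ P) (v : T.left), p.left v ∈ O ↔
      Points.map ((yon S).map p) (Points.ofScheme T v) ∈ O' := fun {T} p v => by
    have e : Points.map ((yon S).map p) (Points.ofScheme T v) = Points.schemeHomeo P (p.left v) := by
      rw [← Points.ofPt_eq_map_ofScheme, ← Category.comp_id ((yon S).map p), ofPt_comp]
      exact (Points.ofPt_eq_map_ofScheme _ _).trans (Points.map_id _)
    rw [e]
    rfl
  have hEfwd : ∀ {T : Over S} {y₁ y₂ : T ⟶ W}, E y₁ y₂ → ∃ r : T ⟶ R, r ≫ t = y₁ ∧ r ≫ s = y₂ := by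
    intro T y₁ y₂ ⟨h0, h1⟩
    obtain ⟨p, hp₁, hp₂⟩ := exists_pair_lift sqP y₁ y₂ h0
    obtain ⟨r, hr⟩ := EtLift.exists_factor_open O p fun v => by
      rw [hmemO]
      let Z := pullback f ((yon S).map y₁ ≫ w)
      have hZ : IsAlgSpace Z := isAlgSpace_pullback hX (IsAlgSpace.yon_obj T) hY _ _
      let e : Z ⟶ (yon S).obj T := pullback.snd _ _
      obtain ⟨ζ, hζ⟩ := (hf.of_isPullback (IsPullback.of_hasPullback f ((yon S).map y₁ ≫ w))).bijective.2
        (Points.ofScheme T v)
      let z₁ : Z ⟶ (yon S).obj WX := sqW.lift (pullback.fst _ _) (e ≫ (yon S).map y₁)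
        (pullback.condition.trans (Category.assoc _ _ _).symm)
      let z₂ : Z ⟶ (yon S).obj WX := sqW.lift (pullback.fst _ _) (e ≫ (yon S).map y₂)
        (pullback.condition.trans ((congrArg (e ≫ ·) h0).trans (Category.assoc _ _ _).symm))
      have hk := h1 Z hZ z₁ z₂ e ((sqW.lift_fst _ _ _).trans (sqW.lift_fst _ _ _).symm)
        (sqW.lift_snd _ _ _) (sqW.lift_snd _ _ _)
      obtain ⟨l, hl₁, hl₂⟩ : ∃ l, l ≫ (yon S).map tX = z₁ ∧ l ≫ (yon S).map sX = z₂ :=
        ⟨sqK.lift z₁ z₂ hk, sqK.lift_fst _ _ _, sqK.lift_snd _ _ _⟩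
      have hl : l ≫ ρ ≫ π = e ≫ (yon S).map p := sqP.hom_ext
        (by rw [hρ₂, Category.assoc, Category.assoc, hρP₁, ← Category.assoc, hl₁, sqW.lift_snd, ← Functor.map_comp, hp₁])
        (by rw [hρ₂, Category.assoc, Category.assoc, hρP₂, ← Category.assoc, hl₂, sqW.lift_snd, ← Functor.map_comp, hp₂])
      refine ⟨Points.map ρ (Points.map l ζ), ⟨_, rfl⟩, ?_⟩
      rw [← hζ, ← Points.map_comp, ← Points.map_comp, ← Points.map_comp e ((yon S).map p)]
      exact congrArg (fun m => Points.map m ζ) hl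
    exact ⟨r, by rw [← Category.assoc, hr, hp₁], by rw [← Category.assoc, hr, hp₂]⟩
  have hEbwd : ∀ {T : Over S} (r : T ⟶ R), E (r ≫ t) (r ≫ s) := by
    intro T r
    refine ⟨by simp only [t, s, Functor.map_comp, Category.assoc, sqP.w], fun Z hZ z₁ z₂ e h0 h1 h2 => ?_⟩
    let p : T ⟶ P := r ≫ ι
    let μ : Z ⟶ PX := pullback.lift (z₁ ≫ πX) (e ≫ (yon S).map p) (by
      simp only [z, p, Category.assoc, Functor.map_comp]
      rw [sqW.w, ← Category.assoc z₁, h1]
      simp only [t, Functor.map_comp, Category.assoc])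
    obtain ⟨n, hn⟩ := exists_lift_openImmersion hZ (IsAlgSpace.yon_obj RX) hPX hρo μ (by
      rintro _ ⟨ζ, rfl⟩
      have h4 : Points.map π (Points.map μ ζ) ∈ O' := by
        rw [← Points.map_comp, show μ ≫ π = e ≫ (yon S).map p from pullback.lift_snd _ _ _, Points.map_comp,
          ← Points.ofScheme_toScheme T (Points.map e ζ), ← hmemO]
        simp only [p, Over.comp_left, Scheme.Hom.comp_apply]
        exact (r.left _).2
      obtain ⟨x, hx, hxe⟩ := h4
      exact hπ.bijective.1 hxe ▸ hx)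
    have hn₁ : n ≫ (yon S).map tX = z₁ := sqW.hom_ext
      (by rw [Category.assoc, ← hρ₁, ← Category.assoc, hn]; exact pullback.lift_fst _ _ _)
      (by rw [Category.assoc, ← hρP₁, ← hρ₂, ← Category.assoc, ← Category.assoc, hn,
            show μ ≫ π = e ≫ (yon S).map p from pullback.lift_snd _ _ _, Category.assoc, ← Functor.map_comp, h1]
          simp only [p, t, Category.assoc])
    have hn₂ : n ≫ (yon S).map sX = z₂ := sqW.hom_ext
      (by rw [Category.assoc, ← htsX, ← hρ₁, ← Category.assoc, hn, ← h0]; exact pullback.lift_fst _ _ _)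
      (by rw [Category.assoc, ← hρP₂, ← hρ₂, ← Category.assoc, ← Category.assoc, hn,
            show μ ≫ π = e ≫ (yon S).map p from pullback.lift_snd _ _ _, Category.assoc, ← Functor.map_comp, h2]
          simp only [p, s, Category.assoc])
    rw [← hn₁, ← hn₂, Category.assoc, sqK.w, Category.assoc]
  have hR : IsEqvRel s t := by
    refine { injective := fun T x y h1 h2 => ?_, equivalence := fun T => ⟨fun x => ?_, ?_, ?_⟩ }
    · have e : x ≫ ι = y ≫ ι := (yon S).map_injective (sqP.hom_ext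
        (by rw [← Functor.map_comp, ← Functor.map_comp]; simpa [t] using congrArg (yon S).map h1)
        (by rw [← Functor.map_comp, ← Functor.map_comp]; simpa [s] using congrArg (yon S).map h2))
      exact Over.OverMorphism.ext ((cancel_mono O.ι).1 (congrArg (fun k => k.left) e))
    · refine hEfwd ⟨rfl, fun Z _ z₁ z₂ e h0 h1 h2 => ?_⟩
      rw [sqW.hom_ext h0 (h1.trans h2.symm)]
    · rintro x y ⟨r, rfl, rfl⟩
      obtain ⟨h0, h1⟩ := hEbwd r
      exact hEfwd ⟨h0.symm, fun Z hZ z₁ z₂ e g0 g1 g2 => (h1 Z hZ z₂ z₁ e g0.symm g2 g1).symm⟩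
    · rintro x y y₃ ⟨r, rfl, rfl⟩ ⟨r', hr', rfl⟩
      obtain ⟨h0, h1⟩ := hEbwd r
      obtain ⟨h0', h1'⟩ := hEbwd r'
      rw [hr'] at h0' h1'
      refine hEfwd ⟨h0.trans h0', fun Z hZ z₁ z₃ e g0 g1 g3 => ?_⟩
      let z₂ : Z ⟶ (yon S).obj WX := sqW.lift (z₁ ≫ πX) (e ≫ (yon S).map (r ≫ s)) (by
        rw [Category.assoc, Category.assoc, sqW.w, ← Category.assoc, g1, Category.assoc, h0])
      exact (h1 Z hZ z₁ z₂ e (sqW.lift_fst _ _ _).symm g1 (sqW.lift_snd _ _ _)).trans
        (h1' Z hZ z₂ z₃ e ((sqW.lift_fst _ _ _).trans g0) (sqW.lift_snd _ _ _) g3)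
  haveI : Etale s.left := inferInstanceAs (Etale (O.ι ≫ s'.left))
  haveI : Etale t.left := inferInstanceAs (Etale (O.ι ≫ t'.left))
  -- the quotient
  obtain ⟨πQ, hπdef⟩ : ∃ π : (yon S).obj W ⟶ QuotSh.quot Scheme.fppfPrecoverage s t,
      π = AlgSpPts.quotMap s t := ⟨_, rfl⟩
  have sqπ : IsPullback ((yon S).map t) ((yon S).map s) πQ πQ := by
    rw [hπdef]
    exact AlgSpPts.isPullback_quotMap hR
  haveI : Sheaf.IsLocallySurjective πQ := by
    rw [hπdef]
    have : Epi (QuotSh.quotπ Scheme.fppfPrecoverage s t) := by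
      unfold QuotSh.quotπ
      infer_instance
    exact (CategoryTheory.Sheaf.isLocallySurjective_iff_epi _).2 (epi_comp _ _)
  have hQ : IsAlgSpace (QuotSh.quot Scheme.fppfPrecoverage s t) := AlgSpDec.isAlgSpace_quot hR
  have hπr : Representable πQ := AlgSpDec.representable_of_kernelPair sqπ
  have hss : Surjective s.left := ⟨fun x => by
    obtain ⟨r, -, hr⟩ := (hR.equivalence W).refl (𝟙 W)
    exact ⟨r.left x, by rw [← Scheme.Hom.comp_apply, ← Over.comp_left, hr]; simp⟩⟩
  have := AlgSpPts.isLocalAtTarget_fppf (@Etale : MorphismProperty Scheme.{u})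
  have := AlgSpPts.isLocalAtTarget_fppf (@Surjective : MorphismProperty Scheme.{u})
  have hπe : RepWith @Etale πQ :=
    AlgSpPts.repWith_of_locallySurjective hπr _ sqπ @Etale ((repWith_yon_map_iff _ _).2 ‹Etale s.left›)
  have hπs : RepWith @Surjective πQ :=
    AlgSpPts.repWith_of_locallySurjective hπr _ sqπ @Surjective ((repWith_yon_map_iff _ _).2 hss)
  obtain ⟨a, ha⟩ : ∃ a : QuotSh.quot Scheme.fppfPrecoverage s t ⟶ Y, πQ ≫ a = w :=
    let r := Cofork.IsColimit.desc' (EtLift.isColimitOfAtlas hπe hπs sqπ) w (by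
      simp only [t, s, Functor.map_comp, Category.assoc, sqP.w])
    ⟨r.1, r.2⟩
  have hae : LocP @Etale a := locP_of_chart hπe hπs hw
    (show πQ ≫ a = (yon S).map (𝟙 W) ≫ w by rw [ha, CategoryTheory.Functor.map_id, Category.id_comp])
    (inferInstanceAs (Etale (𝟙 W.left)))
  let QX := pullback f a
  have hQX : IsAlgSpace QX := isAlgSpace_pullback hX hQ hY f a
  let j : (yon S).obj WX ⟶ QX := pullback.lift πX ((yon S).map q ≫ πQ) (by rw [sqW.w, Category.assoc, ha])
  have sqj : IsPullback ((yon S).map q) j πQ (pullback.snd f a) := by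
    refine IsPullback.of_bot (v₂₁ := pullback.fst f a) (v₂₂ := a) (h₃₁ := f) ?_ (pullback.lift_snd _ _ _).symm
      (IsPullback.of_hasPullback f a).flip
    rw [pullback.lift_fst, ha]
    exact sqW.flip
  have hje : RepWith @Etale j := repWith_of_isPullback sqj hπe
  have hjs : RepWith @Surjective j := repWith_of_isPullback sqj hπs
  have hjπ : j ≫ pullback.snd f a = (yon S).map q ≫ πQ := pullback.lift_snd _ _ _
  have hjX : j ≫ pullback.fst f a = πX := pullback.lift_fst _ _ _
  -- `k` and `j` have the same kernel pair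
  obtain ⟨ρR, hρR⟩ : ∃ g : RX ⟶ R, (yon S).map (g ≫ ι) = ρP := by
    obtain ⟨p, hp⟩ := (yon S).map_surjective ρP
    obtain ⟨g, hg⟩ := EtLift.exists_factor_open O p fun v => by
      rw [hmemO, hp]
      exact ⟨Points.map ρ (Points.ofScheme RX v), ⟨_, rfl⟩, by rw [← Points.map_comp, hρ₂]⟩
    exact ⟨g, by rw [hg, hp]⟩
  have hjw : (yon S).map tX ≫ j = (yon S).map sX ≫ j := by
    apply pullback.hom_ext
    · rw [Category.assoc, Category.assoc, hjX, htsX]
    · rw [Category.assoc, Category.assoc, hjπ, ← Category.assoc, ← Category.assoc, ← hρP₁, ← hρP₂, ← hρR,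
        ← Functor.map_comp, ← Functor.map_comp, Category.assoc, Category.assoc]
      simp only [Functor.map_comp, Category.assoc]
      refine congrArg ((yon S).map ρR ≫ ·) ?_
      simpa only [t, s, Functor.map_comp, Category.assoc] using sqπ.w
  have hjk : ∀ {Z : Sp S} (z₁ z₂ : Z ⟶ (yon S).obj WX), z₁ ≫ j = z₂ ≫ j → z₁ ≫ k = z₂ ≫ k := by
    have hu : pullback.fst j j ≫ k = pullback.snd j j ≫ k := by
      let J := pullback j j
      have hJ : IsAlgSpace J := isAlgSpace_pullback hWX hWX hQX j j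
      let J₁ := hje.rep.pullback j
      let u₁ : J₁ ⟶ WX := hje.rep.fst' j
      let u₂ : J₁ ⟶ WX := hje.rep.snd j
      have sqJ : IsPullback ((yon S).map u₁) ((yon S).map u₂) j j := hje.rep.isPullback' j
      obtain ⟨r, hr₁, hr₂⟩ := exists_pair_lift sqπ (u₁ ≫ q) (u₂ ≫ q) (by
        simp only [Functor.map_comp, Category.assoc, ← hjπ]
        rw [reassoc_of% sqJ.w])
      obtain ⟨-, hE⟩ := hEbwd r
      rw [hr₁, hr₂] at hE
      have h := hE ((yon S).obj J₁) (IsAlgSpace.yon_obj J₁) ((yon S).map u₁) ((yon S).map u₂) (𝟙 _)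
        (by rw [← hjX, reassoc_of% sqJ.w]) (by rw [Category.id_comp, Functor.map_comp])
        (by rw [Category.id_comp, Functor.map_comp])
      let l := sqJ.lift (pullback.fst j j) (pullback.snd j j) pullback.condition
      have l₁ : l ≫ (yon S).map u₁ = pullback.fst j j := sqJ.lift_fst _ _ _
      have l₂ : l ≫ (yon S).map u₂ = pullback.snd j j := sqJ.lift_snd _ _ _
      exact (congrArg (· ≫ k) l₁).symm.trans ((Category.assoc _ _ _).trans
        ((congrArg (l ≫ ·) h).trans ((Category.assoc _ _ _).symm.trans (congrArg (· ≫ k) l₂))))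
    intro Z z₁ z₂ e
    rw [← pullback.lift_fst z₁ z₂ e, Category.assoc, hu, ← Category.assoc, pullback.lift_snd]
  have sqj' : IsPullback ((yon S).map tX) ((yon S).map sX) j j :=
    IsPullback.of_isLimit' ⟨hjw⟩ (PullbackCone.IsLimit.mk _ (fun c => sqK.lift c.fst c.snd (hjk _ _ c.condition))
      (fun c => sqK.lift_fst _ _ _) (fun c => sqK.lift_snd _ _ _)
      (fun c m h1 h2 => sqK.hom_ext (by rw [sqK.lift_fst, h1]) (by rw [sqK.lift_snd, h2])))
  let c₁ := EtLift.isColimitOfAtlas hke hks' sqK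
  let ε : V ≅ QX := c₁.coconePointUniqueUpToIso (EtLift.isColimitOfAtlas hje hjs sqj')
  have hε : k ≫ ε.hom = j :=
    c₁.comp_coconePointUniqueUpToIso_hom (EtLift.isColimitOfAtlas hje hjs sqj') WalkingParallelPair.one
  haveI : Epi k := epi_of_etale_surjective hke hks'
  have hεb : ε.hom ≫ pullback.fst f a = b := by
    rw [← cancel_epi k, ← Category.assoc, hε, hjX, hkb]
  refine ⟨_, a, ε.hom ≫ pullback.snd f a, hQ, hae, ?_⟩
  exact (IsPullback.of_hasPullback f a).of_iso ε.symm (Iso.refl _) (Iso.refl _) (Iso.refl _)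
    (by simp [← hεb]) (by simp) (by simp) (by simp)

end Groth.Agent.Dsp6.UHEq
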